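import Cfsg.Agent.Lib.Lie.Chev.Tw.Sub.Height
import Cfsg.Agent.Lib.Lie.Chev.Tw.Out.OrbList

/-!
# Simple coordinates and elements carrying them into `U`
-/

set_option autoImplicit false

namespace CfsgLib.Lie.Chev.SubConj

open Cfsg.Lie
open CfsgLib.Lie.Chev
open scoped MatrixGroups

variable {D : ChevalleyDatum} {K : Type*} [Field K]

theorem hgt_simp (G : Good D) (i : Fin D.rank) : TwSub.hgt G (G.simp' i) = 1 := by
  simp [TwSub.hgt, G.rho_simp]

theorem coord_add (G : Good D) (i : Fin D.rank) {a b : GL D.Idx K}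
    (ha : a ∈ D.posUnipotent K) (hb : b ∈ D.posUnipotent K) :
    TwSub.coord G (G.simp' i) (a * b) =
      TwSub.coord G (G.simp' i) a + TwSub.coord G (G.simp' i) b :=
  TwSub.coord_mul G (h := 1) le_rfl (by rw [hgt_simp]; norm_num)
    (TwSub.U_le_Uh_one G ha) (TwSub.U_le_Uh_one G hb)

theorem coord_simp_xu (G : Good D) (i : Fin D.rank) {s : Fin D.nroots} (hs : D.IsPosRoot s.val)
    (t : K) : TwSub.coord G (G.simp' i) (G.xu s t) = if s = G.simp' i then t else 0 :=
  TwSub.coord_xu G (G.simp_pos i) hs (by rw [hgt_simp]; exact TwSub.hgt_pos G hs) t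

/-- a kept element has no coordinate at a flipped simple root -/
theorem coord_Ukeep (G : Good D) (i : Fin D.rank) {π : Equiv.Perm (Fin D.nroots)}
    (hneg : ¬ D.IsPosRoot (π (G.simp' i)).val) {v : GL D.Idx K}
    (hv : v ∈ (Ukeep G π : Subgroup (GL D.Idx K))) :
    TwSub.coord G (G.simp' i) v = 0 := by
  have hle : (Ukeep G π : Subgroup (GL D.Idx K)) ≤ D.posUnipotent K := by
    rw [Ukeep, Subgroup.closure_le]
    rintro g ⟨r, t, hr, rfl⟩
    exact G.xu_mem_U hr.1 t
  induction hv using Subgroup.closure_induction with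
  | one => exact TwSub.coord_one G _
  | mul a b ha hb iha ihb => rw [coord_add G i (hle ha) (hle hb), iha, ihb, add_zero]
  | inv a ha iha =>
    have h := coord_add G i (inv_mem (hle ha)) (hle ha)
    rw [inv_mul_cancel, TwSub.coord_one, iha, add_zero] at h
    exact h.symm
  | mem x hx =>
    obtain ⟨r, t, ⟨hr, hπ⟩, rfl⟩ := hx
    rw [coord_simp_xu G i hr, if_neg]
    rintro rfl
    exact hneg hπ

variable (C : Full D)

/-- an element with a coordinate at a flipped simple root is not carried into `U` -/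
theorem coord_eq_zero_of_conj {n y : GL D.Idx K} {π : Equiv.Perm (Fin D.nroots)}
    (hn : C.G.NPerm n π) (i : Fin D.rank) (hneg : ¬ D.IsPosRoot (π (C.G.simp' i)).val)
    (hy : y ∈ D.posUnipotent K) (h : n * y * n⁻¹ ∈ D.posUnipotent K) :
    TwSub.coord C.G (C.G.simp' i) y = 0 := by
  obtain ⟨a, ha, b, hb, rfl⟩ := C.exists_keep_mul_inv π hy
  have hb1 : b = 1 := by
    have h1 : n * b * n⁻¹ ∈ D.posUnipotent K ⊓ D.negUnipotent K := by
      refine Subgroup.mem_inf.2 ⟨?_, C.G.conj_Uinv hn b hb⟩
      have := mul_mem (inv_mem (C.G.conj_Ukeep hn a ha)) h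
      simpa [mul_assoc] using this
    rw [C.G.U_inf_V_eq, Subgroup.mem_bot, conj_eq_one_iff] at h1
    exact h1
  rw [hb1, mul_one]
  exact coord_Ukeep C.G i hneg ha

variable (L : List (Fin D.rank × RingAut K))

theorem prod_mem_U (f : Fin D.rank × RingAut K → K) :
    (L.map fun a => C.G.xu (C.G.simp' a.1) (f a)).prod ∈ D.posUnipotent K :=
  list_prod_mem (S := D.posUnipotent K) fun x hx => by
    obtain ⟨a, -, rfl⟩ := List.mem_map.1 hx
    exact C.G.xu_mem_U (C.G.simp_pos _) _

theorem coord_prod (f : Fin D.rank × RingAut K → K) (hnd : (L.map Prod.fst).Nodup)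
    {a : Fin D.rank × RingAut K} (ha : a ∈ L) :
    TwSub.coord C.G (C.G.simp' a.1) (L.map fun a => C.G.xu (C.G.simp' a.1) (f a)).prod = f a := by
  have h0 : ∀ l : List (Fin D.rank × RingAut K), a.1 ∉ l.map Prod.fst →
      TwSub.coord C.G (C.G.simp' a.1) (l.map fun a => C.G.xu (C.G.simp' a.1) (f a)).prod = 0 := by
    intro l
    induction l with
    | nil => intro _; simp [TwSub.coord_one]
    | cons b l ih =>
      intro hb
      simp only [List.map_cons, List.mem_cons, not_or] at hb
      rw [List.map_cons, List.prod_cons, coord_add C.G _ (C.G.xu_mem_U (C.G.simp_pos _) _)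
        (prod_mem_U C l f), ih hb.2, coord_simp_xu C.G _ (C.G.simp_pos _),
        if_neg fun e => hb.1 (C.G.simp_injective e).symm, add_zero]
  induction L with
  | nil => exact absurd ha (List.not_mem_nil)
  | cons b l ih =>
    simp only [List.map_cons, List.nodup_cons] at hnd
    rw [List.map_cons, List.prod_cons, coord_add C.G _ (C.G.xu_mem_U (C.G.simp_pos _) _)
        (prod_mem_U C l f), coord_simp_xu C.G _ (C.G.simp_pos _)]
    rcases List.mem_cons.1 ha with rfl | ha'
    · rw [if_pos rfl, h0 l hnd.1, add_zero]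
    · rw [if_neg fun e => hnd.1 (List.mem_map.2 ⟨a, ha', (C.G.simp_injective e).symm⟩), zero_add,
        ih hnd.2 ha']

end CfsgLib.Lie.Chev.SubConj
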