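import Cfsg.Agent.Lib.Lie.Chev.Tw.SubConj.Main
import Cfsg.Agent.Lib.Lie.Chev.Tw.Out.CaseE6
import Cfsg.Agent.Lib.Lie.Chev.Tw.FoldE6

/-!
# Three classes of subgroups of type F₄(2) in ²E₆(2)
-/

set_option autoImplicit false
set_option maxRecDepth 100000

namespace CfsgLib.Lie.Chev.SubConj

open Cfsg.Lie
open CfsgLib.Lie.Chev
open scoped MatrixGroups

/-- the identity of the prime field is its Frobenius map -/
theorem refl_pow : ∀ x : ZMod 2, RingEquiv.refl (ZMod 2) x = x ^ 2 := by decide +kernel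

/-- the twisted group over the prime field -/
theorem P0 : TwGp (TE6.orbits (RingEquiv.refl (ZMod 2))) (twistedE6 (ZMod 2) 2) :=
  TE6.twGp (RingEquiv.refl (ZMod 2)) refl_pow fun _ => rfl

/-- the parameters over the prime field -/
noncomputable def Q0 : TwPar P0 := TE6.twPar (RingEquiv.refl (ZMod 2)) refl_pow fun _ => rfl

theorem equiv_F4 : Nonempty (↥(twistedE6 (ZMod 2) 2) ≃* ↥(chevF4.group (ZMod 2))) := by
  obtain ⟨e⟩ := TE6.fix_equiv_F4 (K := ZMod 2)
  exact ⟨(MulEquiv.subgroupCongr P0.eq_Fix).trans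
    ((Subgroup.equivMapOfInjective _ _ (Subgroup.subtype_injective _)).symm.trans e)⟩

variable {K : Type*} [Field K] [CharP K 2]

/-- the embedding of the prime field -/
noncomputable def iota : ZMod 2 →+* K := ZMod.castHom (dvd_refl 2) K

theorem fix_iota (θ : K ≃+* K) : (θ.toRingHom : K →+* K).comp iota = iota :=
  Subsingleton.elim _ _

theorem fmap_pP_pN (θ : K ≃+* K) (k : Fin orbGraphE6.no) (t : ZMod 2) :
    fmap chevE6 (iota (K := K)) (TE6.C.pP (TE6.outL (RingEquiv.refl (ZMod 2)) k) t) =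
        TE6.C.pP (TE6.outL θ k) (iota t) ∧
      fmap chevE6 (iota (K := K)) (TE6.C.pN (TE6.outL (RingEquiv.refl (ZMod 2)) k) t) =
        TE6.C.pN (TE6.outL θ k) (iota t) := by
  have hθ : θ (iota t) = iota t := RingHom.congr_fun (fix_iota θ) t
  rcases TE6.k_cases k with rfl | rfl | rfl | rfl
  · simp only [TE6.pP0, TE6.pN0, TE6.C.G.fmap_xu, and_self]
  · simp only [TE6.pP1, TE6.pN1, TE6.C.G.fmap_xu, and_self]
  · simp only [TE6.pP2, TE6.pN2, TE6.x2, map_mul, TE6.C.G.fmap_xu, hθ, RingEquiv.refl_apply,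
      and_self]
  · simp only [TE6.pP3, TE6.pN3, TE6.x2, map_mul, TE6.C.G.fmap_xu, hθ, RingEquiv.refl_apply,
      and_self]

variable [Fintype K]

theorem three_classes (hK : Fintype.card K = 4) :
    ∃ H : Fin 3 → Subgroup ↥(twistedE6 K 2),
      (∀ i, Nonempty ((H i) ≃* ↥(chevF4.group (ZMod 2)))) ∧
      ∀ i j, i ≠ j → ∀ g : ↥(twistedE6 K 2),
        (H i).map (MulAut.conj g).toMonoidHom ≠ H j := by
  classical
  have hq : IsPrimePow 2 := Nat.prime_two.isPrimePow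
  have hK' : Fintype.card K = 2 ^ 2 := hK.trans rfl
  obtain ⟨θ, hθ⟩ := Frob.exists_powEquiv (K := K) hq hK'
  have h2 : ∀ t : K, θ (θ t) = t := fun t => by
    rw [hθ, hθ, ← pow_mul, show 2 * 2 = Fintype.card K by rw [hK], FiniteField.pow_card]
  set P := TE6.twGp θ hθ h2
  set Q := TE6.twPar θ hθ h2
  have hσ : ∀ x : K, θ x = x → x = 0 ∨ x = 1 := fun x hx => by
    rw [hθ] at hx
    rcases eq_or_ne x 0 with h | h
    · exact Or.inl h
    · exact Or.inr (by rwa [pow_two, mul_eq_left₀ h] at hx)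
  set f : GL chevE6.Idx (ZMod 2) →* GL chevE6.Idx K := fmap chevE6 (iota (K := K))
  have hf : Function.Injective f := fmap_injective _
  set S := (twistedE6 (ZMod 2) 2).map f
  have hS : S ≤ twistedE6 K 2 := by
    refine (Subgroup.map_mono Q0.gen).trans ?_
    rw [MonoidHom.map_closure, Subgroup.closure_le]
    rintro _ ⟨_, ⟨k, t, ht, e | e⟩, rfl⟩
    all_goals
      subst e
      have hmem : iota (K := K) t ∈ Q.F k := by
        show iota (K := K) t ∈ TE6.outF θ k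
        unfold TE6.outF
        split_ifs
        · exact RingHom.mem_eqLocusField.2 (RingHom.congr_fun (fix_iota θ) t)
        · exact Subfield.mem_top _
    · rw [SetLike.mem_coe, show f (TE6.C.pP (Q0.L k) t) = TE6.C.pP (Q.L k) (iota t) from
        (fmap_pP_pN θ k t).1]
      exact Q.mem_pos k _ hmem
    · rw [SetLike.mem_coe, show f (TE6.C.pN (Q0.L k) t) = TE6.C.pN (Q.L k) (iota t) from
        (fmap_pP_pN θ k t).2]
      exact Q.mem_neg k _ hmem
  set sub := (twistedE6 (ZMod 2) 2).subtype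
  set SU := P0.gU.map (f.comp sub)
  set SV := P0.gV.map (f.comp sub)
  have key : ∀ (c : Fin chevE6.rank → Kˣ) (g : ↥(twistedE6 K 2)),
      (∀ s ∈ S, ((g : GL chevE6.Idx K) * TE6.C.G.tor c) * s *
        ((g : GL chevE6.Idx K) * TE6.C.G.tor c)⁻¹ ∈ S) → TE6.C.G.tor c ∈ twistedE6 K 2 := by
    refine tor_mem Q θ hσ S hS ?_ SU SV ?_ ?_ ?_ ?_ ?_
    · rintro _ ⟨x, -, rfl⟩
      show fmap chevE6 _ (fmap chevE6 _ x) = fmap chevE6 _ x
      rw [fmap_fmap, fix_iota]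
    · rintro _ ⟨x, hx, rfl⟩
      exact Subgroup.mem_inf.2 ⟨⟨_, x.2, rfl⟩, TE6.C.G.fmap_mem_U _ hx⟩
    · rintro _ ⟨x, hx, rfl⟩
      have hx' : (x : GL chevE6.Idx (ZMod 2)) ∈ chevE6.negUnipotent (ZMod 2) := hx
      rw [TE6.C.G.negUnipotent_eq_closure] at hx' ⊢
      exact TE6.C.G.fmap_mem_closure _ _ hx'
    · intro k
      refine ⟨Q0.gX k 1, Q0.gX_mem_gU k 1, ?_⟩
      show f (TE6.C.pP (Q0.L k) ((1 : ↥(Q0.F k)) : ZMod 2)) = _
      rw [show f (TE6.C.pP (Q0.L k) ((1 : ↥(Q0.F k)) : ZMod 2)) = _ from (fmap_pP_pN θ k _).1,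
        OneMemClass.coe_one, map_one]
      rfl
    · set n := P0.mMax
      have hnN : (n : GL chevE6.Idx (ZMod 2)) ∈ chevE6.monomialSubgroup (ZMod 2) :=
        P0.mem_N_iff.1 P0.mMax_mem
      obtain ⟨h, hh, l, hl⟩ := TE6.C.G.monomial_decomp hnN
      have hlπ : TE6.C.G.pw l = TwGp.wMax (TE6.twist (RingEquiv.refl (ZMod 2))) := by
        refine Good.NPerm.unique TE6.C.G ?_ P0.mMax_perm
        rw [hl]
        simpa using Good.NPerm.mul TE6.C.G (TE6.C.G.nPerm_H hh) (TE6.C.G.nPerm_nw l)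
      have hh' : f h ∈ chevE6.diagonalSubgroup K := by
        rw [TE6.C.G.diagonal_eq_range] at hh ⊢
        obtain ⟨c, rfl⟩ := hh
        exact ⟨_, (TE6.C.G.fmap_torθ _ c).symm⟩
      have hfn : f (n : GL chevE6.Idx (ZMod 2)) = f h * TE6.C.G.nw l := by
        rw [hl, map_mul]
        exact congrArg _ (TE6.C.G.fmap_nw _ l)
      have hperm : TE6.C.G.NPerm (f (n : GL chevE6.Idx (ZMod 2))) (TE6.C.G.pw l) := by
        rw [hfn]
        simpa using Good.NPerm.mul TE6.C.G (TE6.C.G.nPerm_H hh') (TE6.C.G.nPerm_nw l)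
      have hmon : f (n : GL chevE6.Idx (ZMod 2)) ∈ chevE6.monomialSubgroup K := by
        rw [hfn]
        exact mul_mem (TE6.C.G.H_le_monomial hh') (TE6.C.G.nw_mem_monomial l)
      refine ⟨(f (n : GL chevE6.Idx (ZMod 2)))⁻¹,
        Subgroup.mem_inf.2 ⟨inv_mem ⟨_, n.2, rfl⟩, inv_mem hmon⟩, fun k => ?_,
        (TE6.C.G.pw l)⁻¹, Good.NPerm.inv TE6.C.G hperm, fun r => ?_⟩
      · have h1 : n * Q0.gX k 1 * n⁻¹ ∈ P0.gV := P0.map_gU ▸ ⟨_, Q0.gX_mem_gU k 1, rfl⟩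
        refine ⟨_, h1, ?_⟩
        simp only [MonoidHom.comp_apply, map_mul, map_inv, inv_inv]
        congr 2
        show f (TE6.C.pP (Q0.L k) ((1 : ↥(Q0.F k)) : ZMod 2)) = _
        rw [show f (TE6.C.pP (Q0.L k) ((1 : ↥(Q0.F k)) : ZMod 2)) = _ from (fmap_pP_pN θ k _).1,
          OneMemClass.coe_one, map_one]
        rfl
      · have h1 := TwGp.wMax_pos_iff (T := TE6.twist (RingEquiv.refl (ZMod 2))) ((TE6.C.G.pw l)⁻¹ r)
        rw [← hlπ, ← Equiv.Perm.mul_apply, mul_inv_cancel, Equiv.Perm.one_apply] at h1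
        tauto
    · intro z hz
      have hz' : ∀ x : ↥(twistedE6 (ZMod 2) 2), ∃ y : ↥(twistedE6 (ZMod 2) 2),
          f (y : GL chevE6.Idx (ZMod 2)) = z * f (x : GL chevE6.Idx (ZMod 2)) * z⁻¹ := fun x => by
        obtain ⟨y, hy, e⟩ := hz _ ⟨_, x.2, rfl⟩
        exact ⟨⟨y, hy⟩, e⟩
      choose ψ₀ hψ₀ using hz'
      let ψ₁ : ↥(twistedE6 (ZMod 2) 2) →* ↥(twistedE6 (ZMod 2) 2) :=
        MonoidHom.mk' ψ₀ fun a b => Subtype.ext (hf (by
          simp only [Subgroup.coe_mul, map_mul, hψ₀]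
          group))
      have hψ₁ : Function.Injective ψ₁ := fun a b e => by
        have e' := congrArg (fun y : ↥(twistedE6 (ZMod 2) 2) => f (y : GL chevE6.Idx (ZMod 2))) e
        simp only [ψ₁, MonoidHom.mk'_apply, hψ₀, mul_left_inj, mul_right_inj] at e'
        exact Subtype.ext (hf e')
      let ψ : MulAut ↥(twistedE6 (ZMod 2) 2) :=
        MulEquiv.ofBijective ψ₁ (Finite.injective_iff_bijective.1 hψ₁)
      obtain ⟨x, hxU, hxV⟩ := P0.exists_opposite ψ
      refine ⟨f (x : GL chevE6.Idx (ZMod 2)), ⟨_, x.2, rfl⟩, ?_, ?_⟩ <;>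
        rintro _ ⟨y, hy, rfl⟩
      · refine ⟨x * ψ₁ y * x⁻¹, hxU ▸ ⟨y, hy, rfl⟩, ?_⟩
        simp only [MonoidHom.comp_apply, map_mul, map_inv, sub, Subgroup.subtype_apply, ψ₁,
          MonoidHom.mk'_apply, hψ₀]
        group
      · refine ⟨x * ψ₁ y * x⁻¹, hxV ▸ ⟨y, hy, rfl⟩, ?_⟩
        simp only [MonoidHom.comp_apply, map_mul, map_inv, sub, Subgroup.subtype_apply, ψ₁,
          MonoidHom.mk'_apply, hψ₀]
        group
  -- an outer torus element
  have hP : Nat.card ↥(TwPar.parGrp (TE6.twist θ)) = 9 := by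
    let P1 := {u : Kˣ // (u : K) ^ 2 = (u : K)}
    have hb : Function.Bijective (fun x : (P1 × P1) × (Kˣ × Kˣ) =>
        (⟨TE6.par θ x.1.1.1 x.1.2.1 x.2.1 x.2.2,
          TE6.par_fixed θ h2 ((hθ _).trans x.1.1.2) ((hθ _).trans x.1.2.2)⟩ :
            ↥(TwPar.parGrp (TE6.twist θ)))) := by
      refine ⟨?_, ?_⟩
      · rintro ⟨⟨a, b⟩, c, d⟩ ⟨⟨a', b'⟩, c', d'⟩ e
        have e' := congrArg Subtype.val e
        simp only at e'
        obtain ⟨v1, v3, v2, -, v0, -⟩ := TE6.par_vals θ a.1 b.1 c d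
        obtain ⟨w1, w3, w2, -, w0, -⟩ := TE6.par_vals θ a'.1 b'.1 c' d'
        rw [e'] at v1 v3 v2 v0
        exact Prod.ext (Prod.ext (Subtype.ext (v1.symm.trans w1)) (Subtype.ext (v3.symm.trans w3)))
          (Prod.ext (v2.symm.trans w2) (v0.symm.trans w0))
      · rintro ⟨c, hc⟩
        obtain ⟨f1, f3, -, -⟩ := TE6.fixed_params θ hc
        exact ⟨((⟨c (TE6.nd 1), (hθ _).symm.trans f1⟩, ⟨c (TE6.nd 3), (hθ _).symm.trans f3⟩),
          c (TE6.nd 2), c (TE6.nd 0)), Subtype.ext (TE6.eq_par θ hc).symm⟩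
    rw [← Nat.card_eq_of_bijective _ hb]
    simp only [Nat.card_prod, P1, card_fixed_units hq hK']
    rw [Nat.card_units, Nat.card_eq_fintype_card, hK]
  have hH3 : Nat.card ↥(chevE6.diagonalSubgroup K ⊓ twistedE6 K 2) = 3 := by
    have h := (TE6.summary hq hK').2.2.1
    rw [show Nat.gcd 3 (2 + 1) = 3 from rfl] at h
    generalize Nat.card ↥(chevE6.diagonalSubgroup K ⊓ twistedE6 K 2) = N at h ⊢
    norm_num at h
    omega
  obtain ⟨c, hc⟩ : ∃ c : ↥(TwPar.parGrp (TE6.twist θ)), TE6.C.G.tor c.1 ∉ twistedE6 K 2 := by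
    by_contra hall
    push Not at hall
    have hd : ∀ c : ↥(TwPar.parGrp (TE6.twist θ)),
        TE6.C.G.tor c.1 ∈ chevE6.diagonalSubgroup K ⊓ twistedE6 K 2 := fun c => by
      refine (Q.fieldG_eq_one ⟨TE6.k2, TE6.outF2 θ⟩ (τ := 1) (x := ⟨_, inv_mem (hall c)⟩)
        (c := c) ?_).2
      refine MulEquiv.ext fun y => Subtype.ext ?_
      rw [map_one]
      show (y : GL chevE6.Idx K) = (TE6.C.G.tor c.1)⁻¹ *
        (TE6.C.G.tor c.1 * (y : GL chevE6.Idx K) * (TE6.C.G.tor c.1)⁻¹) * (TE6.C.G.tor c.1)⁻¹⁻¹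
      group
    have hle := Nat.card_le_card_of_injective
      (fun c => (⟨TE6.C.G.tor c.1, hd c⟩ : ↥(chevE6.diagonalSubgroup K ⊓ twistedE6 K 2)))
      fun a b e => Subtype.ext (by
        rw [← mul_inv_eq_one]
        refine TE6.C.G.tor_eq_one ?_
        rw [map_mul, map_inv, mul_inv_eq_one]
        exact congrArg Subtype.val e)
    omega
  set t := TE6.C.G.tor c.1
  have ht2 : t ^ 2 ∉ twistedE6 K 2 := fun h => hc (by
    have h9 : c.1 ^ 9 = 1 := by
      have h := congrArg Subtype.val (pow_card_eq_one' (x := c))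
      rw [hP] at h
      exact h
    have : t = (t ^ 2) ^ 5 := by
      rw [← pow_mul, show 2 * 5 = 9 + 1 from rfl, pow_succ, ← map_pow, h9, map_one, one_mul]
    rw [this]
    exact pow_mem h 5)
  let φ : Fin 3 → (↥(twistedE6 (ZMod 2) 2) →* ↥(twistedE6 K 2)) := fun i =>
    ((Q.torGHom (c ^ i.val)).toMonoidHom).comp
      ((f.comp sub).codRestrict _ fun x => hS ⟨_, x.2, rfl⟩)
  have hφ : ∀ i x, (φ i x : GL chevE6.Idx K) =
      t ^ i.val * f (x : GL chevE6.Idx (ZMod 2)) * (t ^ i.val)⁻¹ := fun i x => by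
    show TE6.C.G.tor ((c ^ i.val : ↥(TwPar.parGrp (TE6.twist θ))) : Fin chevE6.rank → Kˣ) * _ *
      (TE6.C.G.tor _)⁻¹ = _
    rw [Subgroup.coe_pow, map_pow]
    rfl
  refine ⟨fun i => (φ i).range, fun i => ?_, fun i j hij g e => ?_⟩
  · obtain ⟨e₀⟩ := equiv_F4
    refine ⟨((MonoidHom.ofInjective (f := φ i) fun a b h => ?_)).symm.trans e₀⟩
    have h' := congrArg Subtype.val h
    rw [hφ, hφ, mul_left_inj, mul_right_inj] at h'
    exact Subtype.ext (hf h')
  · have hmem : TE6.C.G.tor ((c.1 ^ j.val)⁻¹ * c.1 ^ i.val) ∈ twistedE6 K 2 := by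
      refine key _ ((Q.torGHom (c ^ j.val))⁻¹ g) ?_
      rintro _ ⟨x, hx, rfl⟩
      obtain ⟨y, hy⟩ : MulAut.conj g (φ i ⟨x, hx⟩) ∈ (φ j).range := by
        exact e.le ⟨_, ⟨_, rfl⟩, rfl⟩
      refine ⟨y, y.2, ?_⟩
      have h' := congrArg Subtype.val hy
      rw [hφ, MulAut.conj_apply, Subgroup.coe_mul, Subgroup.coe_mul, Subgroup.coe_inv, hφ] at h'
      have hg : (((Q.torGHom (c ^ j.val))⁻¹ g : ↥(twistedE6 K 2)) : GL chevE6.Idx K) =
          (t ^ j.val)⁻¹ * (g : GL chevE6.Idx K) * t ^ j.val := by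
        rw [← map_inv]
        show TE6.C.G.tor ((c ^ j.val)⁻¹ : ↥(TwPar.parGrp (TE6.twist θ))).1 * _ *
          (TE6.C.G.tor _)⁻¹ = _
        rw [Subgroup.coe_inv, Subgroup.coe_pow, map_inv, map_pow, inv_inv]
      rw [hg, map_mul, map_inv, map_pow, map_pow, show TE6.C.G.tor c.1 = t from rfl]
      calc f (y : GL chevE6.Idx (ZMod 2))
          = (t ^ j.val)⁻¹ * (t ^ j.val * f (y : GL chevE6.Idx (ZMod 2)) * (t ^ j.val)⁻¹) *
            t ^ j.val := by group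
        _ = _ := by rw [h']; group
    rw [map_mul, map_inv, map_pow, map_pow] at hmem
    fin_cases i <;> fin_cases j <;> simp at hij hmem
    all_goals first
      | exact hc hmem
      | exact ht2 hmem
      | exact hc (by simpa [pow_two] using hmem)

end CfsgLib.Lie.Chev.SubConj
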