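import Cfsg.Agent.Lib.Lie.Chev.Tw.SubConj.Coord
import Cfsg.Agent.Lib.Lie.Chev.Tw.Out.Par
import Cfsg.Agent.Lib.Lie.Chev.Tw.Out.ParStd
import Cfsg.Agent.Lib.Lie.Chev.FieldMap

/-!
# Torus conjugates of a rational subgroup of a twisted group

Let `S` be a subgroup of a twisted group over `K`, pointwise fixed by the field automorphism,
containing the orbit elements with parameter one and an element exchanging `U` and `V`, and such
that every automorphism of `S` can be corrected to fix `S ∩ U` and `S ∩ V`. Then an element of the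
coset of an outer torus element normalises `S` only if that torus element lies in the group.
-/

set_option autoImplicit false

namespace CfsgLib.Lie.Chev.SubConj

open Cfsg.Lie
open CfsgLib.Lie.Chev
open scoped MatrixGroups

variable {D : ChevalleyDatum} {K : Type*} [Field K] {C : Full D}

theorem nPerm_tor (c : Fin D.rank → Kˣ) : C.G.NPerm (C.G.tor c) 1 := fun s =>
  ⟨C.G.chi c (C.G.rho s), fun t => C.G.tor_conj_xu c s t⟩

/-- elements permuting the roots carry closures of root elements to closures of root elements -/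
theorem conj_closure {n : GL D.Idx K} {π : Equiv.Perm (Fin D.nroots)} (hn : C.G.NPerm n π)
    {P Q : Fin D.nroots → Prop} (h : ∀ r, P r → Q (π r)) {g : GL D.Idx K}
    (hg : g ∈ Subgroup.closure {g : GL D.Idx K | ∃ r t, P r ∧ g = C.G.xu r t}) :
    n * g * n⁻¹ ∈ Subgroup.closure {g : GL D.Idx K | ∃ r t, Q r ∧ g = C.G.xu r t} := by
  have h1 := Subgroup.mem_map_of_mem (MulAut.conj n).toMonoidHom hg
  rw [MonoidHom.map_closure] at h1
  refine Subgroup.closure_mono ?_ h1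
  rintro _ ⟨_, ⟨r, t, hr, rfl⟩, rfl⟩
  obtain ⟨c, hc⟩ := hn r
  exact ⟨π r, _, h r hr, hc t⟩

theorem conj_U_of_pos {n : GL D.Idx K} {π : Equiv.Perm (Fin D.nroots)} (hn : C.G.NPerm n π)
    (h : ∀ r, D.IsPosRoot r.val → D.IsPosRoot (π r).val) {g : GL D.Idx K}
    (hg : g ∈ D.posUnipotent K) : n * g * n⁻¹ ∈ D.posUnipotent K := by
  rw [C.G.posUnipotent_eq_closure] at hg ⊢
  exact conj_closure hn h hg

theorem conj_V_to_U {n : GL D.Idx K} {π : Equiv.Perm (Fin D.nroots)} (hn : C.G.NPerm n π)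
    (h : ∀ r, ¬ D.IsPosRoot r.val → D.IsPosRoot (π r).val) {g : GL D.Idx K}
    (hg : g ∈ D.negUnipotent K) : n * g * n⁻¹ ∈ D.posUnipotent K := by
  rw [C.G.negUnipotent_eq_closure] at hg
  rw [C.G.posUnipotent_eq_closure]
  exact conj_closure hn (fun r hr => h r ((C.G.isNegRoot_iff_not_pos r).1 hr)) hg

theorem conj_U_to_V {n : GL D.Idx K} {π : Equiv.Perm (Fin D.nroots)} (hn : C.G.NPerm n π)
    (h : ∀ r, D.IsPosRoot r.val → ¬ D.IsPosRoot (π r).val) {g : GL D.Idx K}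
    (hg : g ∈ D.posUnipotent K) : n * g * n⁻¹ ∈ D.negUnipotent K := by
  rw [C.G.negUnipotent_eq_closure]
  rw [C.G.posUnipotent_eq_closure] at hg
  exact conj_closure hn (fun r hr => (C.G.isNegRoot_iff_not_pos _).2 (h r hr)) hg

theorem conj_V_of_one {n : GL D.Idx K} (hn : C.G.NPerm n 1) {g : GL D.Idx K}
    (hg : g ∈ D.negUnipotent K) : n * g * n⁻¹ ∈ D.negUnipotent K := by
  rw [C.G.negUnipotent_eq_closure] at hg ⊢
  exact conj_closure hn (fun r hr => hr) hg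

variable {T : Twist C.G K} {ι : Type} {O : Orbits C.G T.p ι} {Γ : Subgroup (GL D.Idx K)}
  {P : TwGp O Γ}

/-- an element carrying translated orbit elements into `U` lies in the Borel subgroup -/
theorem mem_gB_of_conj (Q : TwPar P) {x : ↥Γ} {t : GL D.Idx K} (ht : C.G.NPerm t 1)
    (h : ∀ k, (x : GL D.Idx K) * (t * C.pP (Q.L k) 1 * t⁻¹) * (x : GL D.Idx K)⁻¹ ∈
      D.posUnipotent K) :
    x ∈ P.gB := by
  obtain ⟨n, hn, hxn⟩ := BN.exists_cell P.bnPair x
  obtain ⟨b, hb, c, hc, rfl⟩ := (BN.mem_cell _).1 hxn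
  rw [P.bnPair_B] at hb hc
  obtain ⟨π, hπW, hπ⟩ := P.exists_perm hn
  have hbN : ∀ {b : ↥Γ}, b ∈ P.gB → ∀ {g : GL D.Idx K}, g ∈ D.posUnipotent K →
      (b : GL D.Idx K) * g * (b : GL D.Idx K)⁻¹ ∈ D.posUnipotent K := by
    intro b hb g hg
    obtain ⟨u, hu, d, hd, rfl⟩ := P.mem_gB_iff.1 hb
    have h1 : (d : GL D.Idx K) * g * (d : GL D.Idx K)⁻¹ ∈ D.posUnipotent K :=
      conj_U_of_pos (C.G.nPerm_H hd) (fun r hr => hr) hg
    have hu' : (u : GL D.Idx K) ∈ D.posUnipotent K := hu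
    have h2 := mul_mem (mul_mem hu' h1) (inv_mem hu')
    simpa [mul_assoc] using h2
  by_cases h1 : π = 1
  · subst h1
    exact mul_mem (mul_mem hb (P.gH_le_gB (P.mem_gH_of_perm_one hn hπ))) hc
  exfalso
  obtain ⟨k, hk⟩ := O.exists_neg hπW h1
  obtain ⟨a, ha, ha1⟩ := Q.base k
  have hy : t * C.pP (Q.L k) 1 * t⁻¹ ∈ D.posUnipotent K :=
    conj_U_of_pos ht (fun r hr => hr) (prod_mem_U C _ _)
  set z := (c : GL D.Idx K) * (t * C.pP (Q.L k) 1 * t⁻¹) * (c : GL D.Idx K)⁻¹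
  have hz : z ∈ D.posUnipotent K := hbN hc hy
  have hnz : (n : GL D.Idx K) * z * (n : GL D.Idx K)⁻¹ ∈ D.posUnipotent K := by
    have h2 := hbN (inv_mem hb) (h k)
    simpa [z, mul_assoc] using h2
  have h0 := coord_eq_zero_of_conj C hπ a.1 (hk a.1 (Q.mem_L k a ha)) hz hnz
  obtain ⟨u, hu, d, hd, hcd⟩ := P.mem_gB_iff.1 hc
  have htd : C.G.NPerm ((d : GL D.Idx K) * t) 1 := by
    simpa using Good.NPerm.mul C.G (C.G.nPerm_H hd) ht
  choose e he using htd
  set f : Fin D.rank × RingAut K → K := fun b => (e (C.G.simp' b.1) : K) * b.2 1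
  have hw : ((d : GL D.Idx K) * t) * C.pP (Q.L k) 1 * ((d : GL D.Idx K) * t)⁻¹ =
      ((Q.L k).map fun b => C.G.xu (C.G.simp' b.1) (f b)).prod := by
    have h2 := map_list_prod (MulAut.conj ((d : GL D.Idx K) * t)).toMonoidHom
      ((Q.L k).map fun b => C.G.xu (C.G.simp' b.1) (b.2 (1 : K)))
    refine h2.trans ?_
    rw [List.map_map]
    congr 1
    exact List.map_congr_left fun b _ => (he (C.G.simp' b.1) _).trans rfl
  have hu' : (u : GL D.Idx K) ∈ D.posUnipotent K := hu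
  have hzw : z = (u : GL D.Idx K) *
      ((Q.L k).map fun b => C.G.xu (C.G.simp' b.1) (f b)).prod * (u : GL D.Idx K)⁻¹ := by
    rw [← hw]
    simp [z, hcd, mul_assoc]
  rw [hzw, coord_add C.G _ (mul_mem hu' (prod_mem_U C _ _)) (inv_mem hu'),
    coord_add C.G _ hu' (prod_mem_U C _ _), coord_prod C _ f (Q.nodup k) ha] at h0
  have h3 := coord_add C.G a.1 hu' (inv_mem hu')
  rw [mul_inv_cancel, TwSub.coord_one] at h3
  have h4 : f a = 0 := by linear_combination h0 + h3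
  simp [f] at h4

/-- the torus element lies in the group if its coset normalises the rational subgroup -/
theorem tor_mem (Q : TwPar P) (σ : RingAut K) (hσ : ∀ x : K, σ x = x → x = 0 ∨ x = 1)
    (S : Subgroup (GL D.Idx K)) (hS : S ≤ Γ)
    (hfix : ∀ g ∈ S, fmap D (σ.toRingHom : K →+* K) g = g)
    (SU SV : Subgroup (GL D.Idx K)) (hSU : SU ≤ S ⊓ D.posUnipotent K) (hSV : SV ≤ D.negUnipotent K)
    (hX : ∀ k, C.pP (Q.L k) 1 ∈ SU)
    (hm : ∃ m ∈ S ⊓ D.monomialSubgroup K, (∀ k, m⁻¹ * C.pP (Q.L k) 1 * m ∈ SV) ∧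
      ∃ π : Equiv.Perm (Fin D.nroots), C.G.NPerm m π ∧
      ∀ r, D.IsPosRoot (π r).val ↔ ¬ D.IsPosRoot r.val)
    (hfr : ∀ z : GL D.Idx K, (∀ g ∈ S, z * g * z⁻¹ ∈ S) → ∃ w ∈ S,
      (∀ g ∈ SU, (w * z) * g * (w * z)⁻¹ ∈ SU) ∧
      ∀ g ∈ SV, (w * z) * g * (w * z)⁻¹ ∈ SV)
    (c : Fin D.rank → Kˣ) (g : ↥Γ)
    (hn : ∀ s ∈ S, ((g : GL D.Idx K) * C.G.tor c) * s * ((g : GL D.Idx K) * C.G.tor c)⁻¹ ∈ S) :
    C.G.tor c ∈ Γ := by
  obtain ⟨w, hw, hU, hV⟩ := hfr _ hn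
  obtain ⟨g', hg'⟩ : ∃ g' : ↥Γ, (g' : GL D.Idx K) = w * (g : GL D.Idx K) :=
    ⟨⟨_, mul_mem (hS hw) g.2⟩, rfl⟩
  set t := C.G.tor c
  have hz : w * ((g : GL D.Idx K) * t) = (g' : GL D.Idx K) * t := by rw [hg', mul_assoc]
  rw [hz] at hU hV
  have ht : C.G.NPerm t 1 := nPerm_tor c
  -- the Borel subgroup
  have hB : g' ∈ P.gB := by
    refine mem_gB_of_conj Q ht fun k => ?_
    have h1 := (hSU (hU _ (hX k))).2
    simpa [mul_assoc] using h1
  -- the opposite Borel subgroup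
  obtain ⟨m, ⟨hmS, hmN⟩, hmX, π, hmπ, hflip⟩ := hm
  have hmi : C.G.NPerm m⁻¹ π⁻¹ := Good.NPerm.inv C.G hmπ
  have hflip' : ∀ r, D.IsPosRoot (π⁻¹ r).val ↔ ¬ D.IsPosRoot r.val := fun r => by
    have := hflip (π⁻¹ r)
    rw [← Equiv.Perm.mul_apply, mul_inv_cancel, Equiv.Perm.one_apply] at this
    tauto
  obtain ⟨x, hx⟩ : ∃ x : ↥Γ, (x : GL D.Idx K) = m * (g' : GL D.Idx K) * m⁻¹ :=
    ⟨⟨_, mul_mem (mul_mem (hS hmS) g'.2) (inv_mem (hS hmS))⟩, rfl⟩
  have ht' : C.G.NPerm (m * t * m⁻¹) 1 := by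
    have := Good.NPerm.mul C.G (Good.NPerm.mul C.G hmπ ht) hmi
    simpa using this
  have hB' : x ∈ P.gB := by
    refine mem_gB_of_conj Q ht' fun k => ?_
    have h2 := conj_V_to_U hmπ (fun r hr => (hflip r).2 hr) (hSV (hV _ (hmX k)))
    rw [hx]
    simpa [mul_assoc] using h2
  -- their intersection
  have hH : (g' : GL D.Idx K) ∈ D.diagonalSubgroup K := by
    obtain ⟨u, hu, d, hd, hud⟩ := P.mem_gB_iff.1 hB'
    have hvh : (g' : GL D.Idx K) ∈ D.negUnipotent K ⊔ D.diagonalSubgroup K := by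
      rw [show (g' : GL D.Idx K) =
          (m⁻¹ * (u : GL D.Idx K) * m⁻¹⁻¹) * (m⁻¹ * (d : GL D.Idx K) * m⁻¹⁻¹) by
        have h3 := congrArg Subtype.val hud
        rw [hx, Subgroup.coe_mul] at h3
        calc (g' : GL D.Idx K) = m⁻¹ * (m * (g' : GL D.Idx K) * m⁻¹) * m⁻¹⁻¹ := by group
          _ = _ := by rw [h3]; group]
      refine mul_mem (Subgroup.mem_sup_left (conj_U_to_V hmi
        (fun r hr => fun h => (hflip' r).1 h hr) hu)) (Subgroup.mem_sup_right ?_)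
      exact (Subgroup.mem_normalizer_iff.1 (C.G.monomial_le_normalizer (inv_mem hmN)) _).1 hd
    have hgB : (g' : GL D.Idx K) ∈ D.borelSubgroup K := hB
    rw [← C.G.B_inf_VH (K := K)]
    exact Subgroup.mem_inf.2 ⟨hgB, hvh⟩
  -- the torus element is rational
  obtain ⟨c₀, hc₀⟩ := C.G.exists_tor hH
  have hz' : (g' : GL D.Idx K) * t = C.G.tor (c₀ * c) := by rw [hc₀, map_mul]
  have hone : c₀ * c = 1 := by
    funext i
    obtain ⟨k, a, ha, rfl⟩ := Q.cover i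
    have h1 := hfix _ (hSU (hU _ (hX k))).1
    rw [hz', C.tor_conj_pP] at h1
    set f : Fin D.rank × RingAut K → K := fun b => ((c₀ * c) b.1 : K) * b.2 1
    have h2 := congrArg (TwSub.coord C.G (C.G.simp' a.1)) h1
    rw [TwSub.coord_fmap] at h2
    have hf := coord_prod C _ f (Q.nodup k) ha
    have h3 : σ (f a) = f a := by
      rw [← hf]
      exact h2
    have h4 : f a ≠ 0 := by simp [f]
    have h5 : f a = 1 := (hσ _ h3).resolve_left h4
    exact Units.ext (by simpa [f] using h5)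
  have h6 : t = (g' : GL D.Idx K)⁻¹ := by
    rw [eq_inv_iff_mul_eq_one, hc₀, ← map_mul, mul_comm c, hone, map_one]
  rw [h6]
  exact inv_mem g'.2

end CfsgLib.Lie.Chev.SubConj
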